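import Groth.Agent.LimCyc.Stalk
import Groth.Agent.MorLib.LimSpace
import Groth.Agent.H23.RatEquivPull
import Mathlib.RingTheory.Length

/-! Cycles on limits of schemes with flat affine transition maps. -/

set_option autoImplicit false
set_option linter.style.haveILetI false
universe u

namespace Groth.Agent.LimCyc

open AlgebraicGeometry CategoryTheory Limits TopologicalSpace
open Groth.Agent H23.FlatShift H23.DivPull H23.FiniteFibreSum

/-- A cycle from a function with finite support. -/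
noncomputable def ofFinite {X : Scheme.{u}} (φ : X → ℤ) (h : (Function.support φ).Finite) :
    AlgebraicCycle X ℤ where
  toFun := φ
  supportWithinDomain' := fun _ _ => trivial
  supportLocallyFiniteWithinDomain' := fun _ _ =>
    ⟨Set.univ, Filter.univ_mem, h.subset Set.inter_subset_right⟩

theorem finite_support {X : Scheme.{u}} [CompactSpace X] (α : AlgebraicCycle X ℤ) :
    (Function.support ⇑α).Finite := by
  have := α.locallyFiniteSupport.finite_inter_support_of_isCompact (isCompact_univ (X := X))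
  simpa using this

/-- The pull-back of a cycle to a quasi-compact scheme, as a cycle. -/
theorem pullFun_support_finite {X Y : Scheme.{u}} [IsLocallyNoetherian X] [CompactSpace X]
    (p : X ⟶ Y) {δX : X → ℤ} {δY : Y → ℤ} {c : ℤ} (hc : HasShift p δX δY c) (hd : Cyc.IsDimFun X δX)
    {α : Y → ℤ} (hα : (Function.support α).Finite) :
    (Function.support (Cyc.pullFun p δX δY c α)).Finite := by
  refine (hα.biUnion fun y _ => finite_gens_inter p y (isCompact_univ (X := X))).subset fun x hx => ?_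
  rw [Function.mem_support, Cyc.pullFun] at hx
  split_ifs at hx with h
  · exact Set.mem_biUnion (left_ne_zero_of_mul hx) ⟨⟨rfl, hc.fibMax_of_ge hd h.ge⟩, trivial⟩
  · exact absurd rfl hx

theorem fibreLen_toNat_ne_zero {X Y : Scheme.{u}} [IsLocallyNoetherian X] (p : X ⟶ Y) {x : X}
    (hx : FibDim.FibMax p x) : (fibreLen p x).toNat ≠ 0 := by
  refine fun h => (ENat.toNat_eq_zero.1 h).elim (fun h0 => ?_) (fibreLen_ne_top p hx)
  rw [fibreLen, Module.length_eq_zero_iff, Ideal.Quotient.subsingleton_iff] at h0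
  refine (IsLocalRing.maximalIdeal.isMaximal (X.presheaf.stalk x)).ne_top
    (eq_top_iff.2 (h0 ▸ Ideal.map_le_iff_le_comap.2 fun a ha => ?_))
  exact map_nonunit (p.stalkMap x).hom a ha

variable {I : Type u} [SmallCategory I] [IsCofiltered I] {D : I ⥤ Scheme.{u}} {c : Cone D}
  (hc : IsLimit c) [∀ {i j : I} (f : i ⟶ j), IsAffineHom (D.map f)]

/-- The projection of the limit to a stage. -/
abbrev pr (c : Cone D) (i : I) : c.pt ⟶ D.obj i := c.π.app i

/-- Holding at all late stages. -/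
def Ev (P : I → Prop) : Prop := ∃ j, ∀ l, (l ⟶ j) → P l

omit [∀ {i j : I} (f : i ⟶ j), IsAffineHom (D.map f)] in
theorem Ev.and {P Q : I → Prop} (hP : Ev P) (hQ : Ev Q) : Ev (fun l => P l ∧ Q l) := by
  obtain ⟨a, ha⟩ := hP
  obtain ⟨b, hb⟩ := hQ
  exact ⟨IsCofiltered.min a b, fun l f => ⟨ha l (f ≫ IsCofiltered.minToLeft a b),
    hb l (f ≫ IsCofiltered.minToRight a b)⟩⟩

omit [∀ {i j : I} (f : i ⟶ j), IsAffineHom (D.map f)] in
theorem Ev.forall_mem {α : Type*} {S : Set α} (hS : S.Finite) {P : α → I → Prop}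
    (h : ∀ a ∈ S, Ev (P a)) : Ev (fun l => ∀ a ∈ S, P a l) := by
  induction S, hS using Set.Finite.induction_on with
  | empty => exact ⟨IsCofiltered.nonempty.some, fun l _ a ha => ha.elim⟩
  | @insert a s _ _ ih =>
    obtain ⟨j, hj⟩ := (h a (Set.mem_insert a s)).and (ih fun b hb => h b (Set.mem_insert_of_mem a hb))
    refine ⟨j, fun l f b hb => ?_⟩
    rcases Set.mem_insert_iff.1 hb with rfl | hb
    exacts [(hj l f).1, (hj l f).2 b hb]

omit [IsCofiltered I] [∀ {i j : I} (f : i ⟶ j), IsAffineHom (D.map f)] in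
theorem pr_map {i j : I} (φ : j ⟶ i) : pr c j ≫ D.map φ = pr c i := c.w φ

omit [IsCofiltered I] [∀ {i j : I} (f : i ⟶ j), IsAffineHom (D.map f)] in
theorem π_apply {i j : I} (φ : j ⟶ i) (s : c.pt) : D.map φ (pr c j s) = pr c i s := by
  rw [← Scheme.Hom.comp_apply, pr_map]

include hc in
theorem ev_ne {s t : c.pt} (h : s ≠ t) : Ev (fun l => pr c l s ≠ pr c l t) := by
  obtain ⟨j, hj⟩ : ∃ j, pr c j s ≠ pr c j t := by
    by_contra hcon
    push Not at hcon
    exact h (MorLib.LimSpace.point_ext hc hcon)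
  refine ⟨j, fun l f e => hj ?_⟩
  rw [← π_apply (c := c) f s, e, π_apply]

include hc in
theorem exists_not_mem_range {i : I} {y : D.obj i} (h : y ∉ Set.range (pr c i)) :
    ∃ (j : I) (φ : j ⟶ i), y ∉ Set.range (D.map φ) := by
  by_contra hcon
  push Not at hcon
  exact h (MorLib.LimPts.mem_range_π hc y hcon)

variable [IsLocallyNoetherian c.pt] [CompactSpace c.pt] {δ : ∀ i, D.obj i → ℤ} {δ' : c.pt → ℤ}
  (hd : ∀ i, Cyc.IsDimFun (D.obj i) (δ i)) (hd' : Cyc.IsDimFun c.pt δ')
  (hsh : ∀ (i j : I) (f : i ⟶ j), HasShift (D.map f) (δ i) (δ j) 0)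
  (hsh' : ∀ i, HasShift (pr c i) δ' (δ i) 0)

omit [IsCofiltered I] [∀ {i j : I} (f : i ⟶ j), IsAffineHom (D.map f)] [CompactSpace c.pt] in
include hd' hsh' in
theorem le_delta (i : I) (x : c.pt) : δ' x ≤ δ i (pr c i x) := by
  simpa using (hsh' i).le hd' x

omit [IsCofiltered I] [∀ {i j : I} (f : i ⟶ j), IsAffineHom (D.map f)] [IsLocallyNoetherian c.pt]
  [CompactSpace c.pt] in
include hd hsh in
theorem delta_mono {i j : I} (f : i ⟶ j) (x : c.pt) :
    δ i (pr c i x) ≤ δ j (pr c j x) := by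
  simpa [π_apply] using (hsh i j f).le (hd i) (pr c i x)

omit [CompactSpace c.pt] in
include hc hd hd' hsh hsh' in
theorem ev_delta (x : c.pt) : Ev (fun l => δ l (pr c l x) = δ' x) := by
  classical
  have hex : ∃ n : ℕ, ∃ j, (δ j (pr c j x) - δ' x).toNat = n :=
    ⟨_, IsCofiltered.nonempty.some, rfl⟩
  obtain ⟨j, hj⟩ := Nat.find_spec hex
  refine ⟨j, fun l f => ?_⟩
  obtain ⟨z, hz, e, hmax⟩ := exists_fibMax_gen (pr c l) x
  have hz' : δ' z = δ l (pr c l x) := by simpa [e] using (hsh' l).eq_of_fibMax hmax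
  by_cases hzx : z = x
  · rw [← hz', hzx]
  exfalso
  obtain ⟨m, hm⟩ := ev_ne hc hzx
  let n := IsCofiltered.min m l
  have hne : pr c n z ≠ pr c n x := hm n (IsCofiltered.minToLeft m l)
  have h1 : δ n (pr c n x) < δ n (pr c n z) :=
    (hd n _ _ (hz.map (pr c n).continuous) hne).1
  have h2 : δ n (pr c n z) ≤ δ l (pr c l x) := by
    have := delta_mono hd hsh (c := c) (IsCofiltered.minToRight m l) z
    rwa [e] at this
  have h3 := delta_mono hd hsh (c := c) f x
  have h4 := le_delta hd' hsh' (δ := δ) n x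
  have h5 := Nat.find_min' hex ⟨n, rfl⟩
  omega

include hc hd hd' hsh hsh' in
/-- A point of the limit is, at late stages, the whole fibre in its dimension, with length one. -/
theorem ev_prime (x : c.pt) : Ev (fun l => δ l (pr c l x) = δ' x ∧ fibreLen (pr c l) x = 1 ∧
    ∀ z, pr c l z = pr c l x → δ' z = δ' x → z = x) := by
  obtain ⟨j, hj⟩ := ev_delta hc hd hd' hsh hsh' x
  refine Ev.and ⟨j, hj⟩ (Ev.and ?_ ?_)
  · obtain ⟨gens, hgens⟩ := (IsLocalRing.maximalIdeal (c.pt.presheaf.stalk x)).fg_of_isNoetherianRing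
    have key : Ev (fun l => ∀ a ∈ (gens : Set (c.pt.presheaf.stalk x)), a ∈ Ideal.map ((pr c l).stalkMap x).hom
        (IsLocalRing.maximalIdeal ((D.obj l).presheaf.stalk (pr c l x)))) := by
      refine Ev.forall_mem gens.finite_toSet fun a ha => ?_
      obtain ⟨m, -, b, hb⟩ := exists_stalk hc j x a
      refine ⟨m, fun l f => map_maximalIdeal_le_of_comp _ _ _ (pr_map f) x ?_⟩
      rw [← hb]
      refine Ideal.mem_map_of_mem _ ((IsLocalRing.mem_maximalIdeal b).2 fun hu => ?_)
      exact (IsLocalRing.mem_maximalIdeal a).1 (hgens ▸ Ideal.subset_span ha) (hb ▸ hu.map _)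
    obtain ⟨m, hm⟩ := key
    refine ⟨m, fun l f => ?_⟩
    have he : Ideal.map ((pr c l).stalkMap x).hom
        (IsLocalRing.maximalIdeal ((D.obj l).presheaf.stalk (pr c l x))) =
          IsLocalRing.maximalIdeal (c.pt.presheaf.stalk x) :=
      le_antisymm (Ideal.map_le_iff_le_comap.2 fun a ha => map_nonunit _ a ha)
        (hgens ▸ Ideal.span_le.2 (hm l f))
    change Module.length _ (c.pt.presheaf.stalk x ⧸ Ideal.map ((pr c l).stalkMap x).hom _) = 1
    rw [he]
    haveI : IsSimpleModule (c.pt.presheaf.stalk x)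
        (c.pt.presheaf.stalk x ⧸ IsLocalRing.maximalIdeal (c.pt.presheaf.stalk x)) :=
      isSimpleModule_iff_isCoatom.2 (Ideal.isMaximal_def.1 (IsLocalRing.maximalIdeal.isMaximal _))
    exact Module.length_eq_one _ _
  · have hfin : ({z : c.pt | pr c j z = pr c j x ∧ FibDim.FibMax (pr c j) z} \ {x}).Finite :=
      ((finite_gens_inter (pr c j) (pr c j x) (isCompact_univ (X := c.pt))).subset
        fun z hz => ⟨hz, trivial⟩).sdiff
    obtain ⟨m, hm⟩ := Ev.forall_mem hfin (P := fun z l => pr c l z ≠ pr c l x)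
      fun z hz => ev_ne hc hz.2
    refine ⟨IsCofiltered.min m j, fun l f z hz hδ => by_contra fun hzx => ?_⟩
    have hj' : pr c j z = pr c j x := by
      rw [← π_apply (c := c) (f ≫ IsCofiltered.minToRight m j) z, hz, π_apply]
    refine hm l (f ≫ IsCofiltered.minToLeft m j) z ⟨⟨hj', ?_⟩, hzx⟩ hz
    refine (hsh' j).fibMax_of_ge hd' ?_
    rw [hj', hj j (𝟙 j), hδ, add_zero]

omit [CompactSpace c.pt] in
include hc hsh' in
/-- A cycle which pulls back to zero on the limit does so at a stage. -/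
theorem exists_pullFun_eq_zero [∀ a b : I, Subsingleton (a ⟶ b)] {i : I} [CompactSpace (D.obj i)]
    (α : AlgebraicCycle (D.obj i) ℤ) (h0 : Cyc.pullFun (pr c i) δ' (δ i) 0 ⇑α = 0) :
    ∃ (j : I) (φ : j ⟶ i), Cyc.pullFun (D.map φ) (δ j) (δ i) 0 ⇑α = 0 := by
  have key : ∀ y ∈ Function.support ⇑α, Ev (fun l => ∀ φ : l ⟶ i, y ∉ Set.range (D.map φ)) := by
    intro y hy
    have hnr : y ∉ Set.range (pr c i) := by
      rintro ⟨x, rfl⟩
      obtain ⟨z, -, e, hmax⟩ := exists_fibMax_gen (pr c i) x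
      have h := congrFun h0 z
      rw [Cyc.pullFun, if_pos ((hsh' i).eq_of_fibMax hmax), Pi.zero_apply, mul_eq_zero] at h
      refine h.elim (fun h => hy ?_) fun h => fibreLen_toNat_ne_zero (pr c i) hmax (by exact_mod_cast h)
      rwa [e] at h
    obtain ⟨j, φ, hj⟩ := exists_not_mem_range hc hnr
    refine ⟨j, fun l g φ' => ?_⟩
    rintro ⟨w, hw⟩
    refine hj ⟨D.map g w, ?_⟩
    rw [← hw, ← Scheme.Hom.comp_apply, ← D.map_comp, Subsingleton.elim (g ≫ φ) φ']
  obtain ⟨m, hm⟩ := Ev.forall_mem (finite_support α) key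
  refine ⟨IsCofiltered.min m i, IsCofiltered.minToRight m i, funext fun w => ?_⟩
  simp only [Cyc.pullFun, Pi.zero_apply]
  split_ifs with h
  · refine mul_eq_zero_of_left (by_contra fun hne => ?_) _
    exact hm _ (IsCofiltered.minToLeft m i) _ hne _ ⟨w, rfl⟩
  · rfl

end Groth.Agent.LimCyc
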