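import Groth.Agent.LimCyc.Basic
import Groth.Agent.CycLib.RatSum

/-! Chow groups of limits of schemes with flat affine transition maps. -/

set_option autoImplicit false
set_option linter.style.haveILetI false
universe u

namespace Groth.Agent.LimCyc

open AlgebraicGeometry CategoryTheory Limits TopologicalSpace
open Groth.Agent H23.FlatShift H23.DivPull H23.FiniteFibreSum

variable {I : Type u} [SmallCategory I] [IsCofiltered I] {D : I ⥤ Scheme.{u}} {c : Cone D}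
  (hc : IsLimit c) [∀ {i j : I} (f : i ⟶ j), IsAffineHom (D.map f)] [∀ {i j : I} (f : i ⟶ j), Flat (D.map f)]
  [∀ i, CompactSpace (D.obj i)] [IsLocallyNoetherian c.pt] [CompactSpace c.pt]
  {δ : ∀ i, D.obj i → ℤ} {δ' : c.pt → ℤ}
  (hd : ∀ i, Cyc.IsDimFun (D.obj i) (δ i)) (hd' : Cyc.IsDimFun c.pt δ')
  (hsh : ∀ (i j : I) (f : i ⟶ j), HasShift (D.map f) (δ i) (δ j) 0)
  (hsh' : ∀ i, HasShift (pr c i) δ' (δ i) 0)

include hc hd hd' hsh hsh' in
theorem exists_pullFun_eq (k : ℤ) (α' : AlgebraicCycle c.pt ℤ) (hα' : α' ∈ Cyc.Zk c.pt δ' k) :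
    ∃ (l : I) (α : AlgebraicCycle (D.obj l) ℤ), α ∈ Cyc.Zk (D.obj l) (δ l) k ∧
      Cyc.pullFun (pr c l) δ' (δ l) 0 ⇑α = ⇑α' := by
  classical
  have hS := finite_support α'
  obtain ⟨l, hl⟩ := Ev.forall_mem hS fun x _ => ev_prime hc hd hd' hsh hsh' x
  replace hl := hl l (𝟙 l)
  let S := hS.toFinset
  let φ : D.obj l → ℤ := fun y => ∑ x ∈ S, if pr c l x = y then α' x else 0
  have hφ : ∀ y, φ y ≠ 0 → ∃ x, α' x ≠ 0 ∧ pr c l x = y := fun y hy => by
    obtain ⟨x, hx, hne⟩ := Finset.exists_ne_zero_of_sum_ne_zero hy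
    exact ⟨x, hS.mem_toFinset.1 hx, by_contra fun h => hne (if_neg h)⟩
  have hk : ∀ x, α' x ≠ 0 → δ' x = k := fun x hx => by_contra fun h => hx (hα' x h)
  let α := ofFinite φ ((S.image (pr c l)).finite_toSet.subset fun y hy => by
    obtain ⟨x, hx, rfl⟩ := hφ y hy
    exact Finset.mem_coe.2 (Finset.mem_image_of_mem _ (hS.mem_toFinset.2 hx)))
  refine ⟨l, α, fun y hy => by_contra fun hne => hy ?_, funext fun z => ?_⟩
  · obtain ⟨x, hx, rfl⟩ := hφ y hne
    rw [(hl x hx).1, hk x hx]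
  show Cyc.pullFun (pr c l) δ' (δ l) 0 φ z = α' z
  simp only [Cyc.pullFun]
  have huniq : ∀ x ∈ S, pr c l x = pr c l z → δ' z = δ l (pr c l z) + 0 → x = z := fun x hx e hz => by
    refine ((hl x (hS.mem_toFinset.1 hx)).2.2 z e.symm ?_).symm
    rw [hz, ← e, (hl x (hS.mem_toFinset.1 hx)).1, add_zero]
  by_cases hz : α' z = 0
  · rw [hz]
    split_ifs with h
    · refine mul_eq_zero_of_left (Finset.sum_eq_zero fun x hx => ?_) _
      split_ifs with e
      · rw [huniq x hx e h, hz]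
      · rfl
    · rfl
  · obtain ⟨h1, h2, h3⟩ := hl z hz
    rw [if_pos (by rw [h1, add_zero])]
    have hsum : φ (pr c l z) = α' z := by
      refine (Finset.sum_eq_single z (fun x hx hne => if_neg fun e => hne (huniq x hx e (by rw [h1, add_zero])))
        fun h => (h (hS.mem_toFinset.2 hz)).elim).trans (if_pos rfl)
    rw [hsum]
    change α' z * ((fibreLen (pr c l) z).toNat : ℤ) = _
    rw [h2]
    simp

include hc hd hd' hsh hsh' in
theorem exists_ratEquivZero_stage [∀ a b : I, Subsingleton (a ⟶ b)] [∀ i, IsLocallyNoetherian (D.obj i)]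
    [∀ i, Flat (pr c i)] {k : ℤ} {i : I} (α : AlgebraicCycle (D.obj i) ℤ) (α' : AlgebraicCycle c.pt ℤ)
    (hα' : ⇑α' = Cyc.pullFun (pr c i) δ' (δ i) 0 ⇑α) (h0 : Cyc.RatEquivZero δ' k α') :
    ∃ (j : I) (φ : j ⟶ i) (αj : AlgebraicCycle (D.obj j) ℤ),
      ⇑αj = Cyc.pullFun (D.map φ) (δ j) (δ i) 0 ⇑α ∧ Cyc.RatEquivZero (δ j) k αj := by
  classical
  obtain ⟨ι, ξ, f, hξ, hf, hloc, hsum⟩ := h0
  haveI : Finite ι := by
    choose U hUo hxU hUfin using hloc
    obtain ⟨t, ht⟩ := CompactSpace.elim_nhds_subcover U fun x => (hUo x).mem_nhds (hxU x)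
    refine Finite.of_finite_univ ((t.finite_toSet.biUnion fun x _ => hUfin x).subset fun a _ => ?_)
    have : ξ a ∈ ⋃ x ∈ t, U x := ht ▸ trivial
    simp only [Set.mem_iUnion, exists_prop] at this
    obtain ⟨x, hx, hxa⟩ := this
    exact Set.mem_biUnion hx ⟨ξ a, subset_closure rfl, hxa⟩
  have key : ∀ a ∈ (Set.univ : Set ι), Ev (fun l => (δ l (pr c l (ξ a)) = k + 1 ∧
      fibreLen (pr c l) (ξ a) = 1 ∧
      ∀ z, pr c l z = pr c l (ξ a) → δ' z = k + 1 → z = ξ a) ∧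
      ∃ g, (pr c l).residueFieldMap (ξ a) g = f a) := by
    intro a _
    refine Ev.and ?_ ?_
    · simpa only [hξ a] using ev_prime hc hd hd' hsh hsh' (ξ a)
    · obtain ⟨r, hr⟩ := c.pt.residue_surjective (ξ a) (f a)
      obtain ⟨m, -, b, hb⟩ := exists_stalk hc i (ξ a) r
      refine ⟨m, fun l g => range_residueFieldMap_subset_of_comp _ _ _ (pr_map g) (ξ a) ?_⟩
      refine ⟨(D.obj m).residue _ b, ?_⟩
      have := congr($(Scheme.residue_residueFieldMap (pr c m) (ξ a)) b)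
      rw [← hr, ← hb]
      exact this
  obtain ⟨m, hm⟩ := Ev.forall_mem Set.finite_univ key
  let l := IsCofiltered.min m i
  let ψ : l ⟶ i := IsCofiltered.minToRight m i
  have hl := fun a => hm l (IsCofiltered.minToLeft m i) a trivial
  choose g hg using fun a => (hl a).2
  have hg0 : ∀ a, g a ≠ 0 := fun a h => hf a (by rw [← hg a, h, map_zero])
  have hlocl : ∀ x : D.obj l, ∃ U : Set (D.obj l), IsOpen U ∧ x ∈ U ∧
      {a | (closure {pr c l (ξ a)} ∩ U).Nonempty}.Finite :=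
    fun x => ⟨Set.univ, isOpen_univ, trivial, Set.toFinite _⟩
  let sd := CycLib.sumDiv (hd l) (fun a => pr c l (ξ a)) g hg0 hlocl
  have hpullsd : Cyc.pullFun (pr c l) δ' (δ l) 0 ⇑sd = ⇑α' := funext fun z => by
    haveI : Fintype ι := Fintype.ofFinite ι
    have h1 : Cyc.pullFun (pr c l) δ' (δ l) 0 ⇑sd z =
        ∑ a, Cyc.pullFun (pr c l) δ' (δ l) 0 (Cyc.divFun (δ l) (pr c l (ξ a)) (g a)) z := by
      simp only [Cyc.pullFun, sd, CycLib.sumDiv_apply, finsum_eq_sum_of_fintype]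
      split_ifs
      · rw [Finset.sum_mul]
      · simp
    rw [h1, hsum, finsum_eq_sum_of_fintype]
    refine Finset.sum_congr rfl fun a _ => ?_
    obtain ⟨ha1, ha2, ha3⟩ := (hl a).1
    rw [pullFun_divFun (pr c l) (hsh' l) (hd l) hd' (hg0 a) z]
    have hset : {w | pr c l w = pr c l (ξ a) ∧ FibDim.FibMax (pr c l) w} = {ξ a} := by
      ext w
      refine ⟨fun hw => ha3 w hw.1 ?_, ?_⟩
      · rw [(hsh' l).eq_of_fibMax hw.2, hw.1, ha1, add_zero]
      · rintro rfl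
        refine ⟨rfl, (hsh' l).fibMax_of_ge hd' ?_⟩
        rw [ha1, hξ a, add_zero]
    rw [hset, finsum_mem_singleton, term, dif_pos rfl, pullRes_rfl, hg a, ha2]
    simp
  let αl := ofFinite _ (pullFun_support_finite (D.map ψ) (hsh l i ψ) (hd l) (finite_support α))
  have hle : ∀ (a b : I) (u : a ⟶ b) (x : D.obj a), δ a x ≤ δ b (D.map u x) + 0 := fun a b u x =>
    (hsh a b u).le (hd a) x
  have hβ : Cyc.pullFun (pr c l) δ' (δ l) 0 ⇑(αl - sd) = 0 := by
    funext z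
    have e1 : Cyc.pullFun (pr c l) δ' (δ l) 0 ⇑αl = ⇑α' := by
      show Cyc.pullFun (pr c l) δ' (δ l) 0 (Cyc.pullFun (D.map ψ) (δ l) (δ i) 0 ⇑α) = _
      rw [pullFun_comp_of_le (pr c l) (D.map ψ) δ' (δ l) (δ i) ((hsh' l).le hd') (hle l i ψ) ⇑α,
        add_zero, pr_map, hα']
    have h1 := congrFun (e1.trans hpullsd.symm) z
    simp only [Cyc.pullFun, Pi.zero_apply] at h1 ⊢
    split_ifs at h1 ⊢
    · show (αl _ - sd _) * _ = 0
      rw [sub_mul, h1, sub_self]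
    · rfl
  obtain ⟨n, ω, hω⟩ := exists_pullFun_eq_zero hc hsh' (αl - sd) hβ
  let αn := ofFinite _ (pullFun_support_finite (D.map (ω ≫ ψ)) (hsh n i (ω ≫ ψ)) (hd n) (finite_support α))
  refine ⟨n, ω ≫ ψ, αn, rfl, ?_⟩
  have hSd : Cyc.RatEquivZero (δ l) k sd :=
    ⟨ι, _, g, fun a => (hl a).1.1, hg0, hlocl, fun _ => rfl⟩
  have e2 : ⇑αn = Cyc.pullFun (D.map ω) (δ n) (δ l) 0 ⇑sd := by
    funext w
    have h2 : Cyc.pullFun (D.map (ω ≫ ψ)) (δ n) (δ i) 0 ⇑α = Cyc.pullFun (D.map ω) (δ n) (δ l) 0 ⇑αl := by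
      show _ = Cyc.pullFun _ _ _ 0 (Cyc.pullFun (D.map ψ) (δ l) (δ i) 0 ⇑α)
      rw [pullFun_comp_of_le (D.map ω) (D.map ψ) (δ n) (δ l) (δ i) (hle n l ω) (hle l i ψ) ⇑α, add_zero,
        D.map_comp]
    show Cyc.pullFun (D.map (ω ≫ ψ)) (δ n) (δ i) 0 ⇑α w = _
    rw [h2]
    have h3 := congrFun hω w
    simp only [Cyc.pullFun, Pi.zero_apply] at h3 ⊢
    split_ifs at h3 ⊢
    · have h4 : (αl _ - sd _) * _ = 0 := h3
      rw [sub_mul, sub_eq_zero] at h4
      exact h4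
    · rfl
  simpa using ratEquivZero_pull (D.map ω) (hsh n l ω) (hd l) (hd n) hSd αn e2

end Groth.Agent.LimCyc
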