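import Groth.Agent.MorLib.LimTop

/-! Stalks and residue fields of limits of schemes with affine transition maps. -/

set_option autoImplicit false
universe u

namespace Groth.Agent.LimCyc

open AlgebraicGeometry CategoryTheory Limits TopologicalSpace Opposite

theorem map_maximalIdeal_le_of_comp {X Y Z : Scheme.{u}} (f : X ⟶ Y) (g : Y ⟶ Z) (h : X ⟶ Z)
    (e : f ≫ g = h) (x : X) :
    Ideal.map (h.stalkMap x).hom (IsLocalRing.maximalIdeal (Z.presheaf.stalk (h x))) ≤
      Ideal.map (f.stalkMap x).hom (IsLocalRing.maximalIdeal (Y.presheaf.stalk (f x))) := by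
  subst e
  rw [Scheme.Hom.stalkMap_comp]
  refine Ideal.map_le_iff_le_comap.2 fun a ha => ?_
  exact Ideal.mem_map_of_mem _ (map_nonunit (g.stalkMap (f x)).hom a ha)

theorem range_residueFieldMap_subset_of_comp {X Y Z : Scheme.{u}} (f : X ⟶ Y) (g : Y ⟶ Z) (h : X ⟶ Z)
    (e : f ≫ g = h) (x : X) :
    Set.range (h.residueFieldMap x).hom ⊆ Set.range (f.residueFieldMap x).hom := by
  subst e
  rintro _ ⟨a, rfl⟩
  rw [Scheme.residueFieldMap_comp]
  exact ⟨_, rfl⟩

variable {I : Type u} [SmallCategory I] [IsCofiltered I] {D : I ⥤ Scheme.{u}} {c : Cone D}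
  (hc : IsLimit c) [∀ {i j : I} (f : i ⟶ j), IsAffineHom (D.map f)]
include hc

/-- Every element of a stalk of the limit comes from a stage. -/
theorem exists_stalk (i : I) (x : c.pt) (a : c.pt.presheaf.stalk x) :
    ∃ (j : I) (_ : j ⟶ i) (b : (D.obj j).presheaf.stalk (c.π.app j x)),
      (c.π.app j).stalkMap x b = a := by
  obtain ⟨V, hV, hxV, -⟩ := exists_isAffineOpen_mem_and_subset (x := c.π.app i x) (U := ⊤) trivial
  haveI := isAffineHom_π_app D c hc i
  haveI : ∀ j, IsAffine ((opensDiagram D i V).obj j) := fun j => hV.preimage (D.map j.hom)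
  haveI : IsAffine (opensCone D c i V).pt := hV.preimage (c.π.app i)
  let U : c.pt.Opens := c.π.app i ⁻¹ᵁ V
  let s : (opensCone D c i V).pt := (⟨x, hxV⟩ : U)
  let a' : (opensCone D c i V).pt.presheaf.stalk s := U.ι.stalkMap s a
  obtain ⟨⟨num, den⟩, hnd⟩ : ∃ p : Γ((opensCone D c i V).pt, ⊤) × Γ((opensCone D c i V).pt, ⊤),
      IsUnit ((opensCone D c i V).pt.presheaf.germ ⊤ s trivial p.2) ∧
      a' * (opensCone D c i V).pt.presheaf.germ ⊤ s trivial p.2 =
        (opensCone D c i V).pt.presheaf.germ ⊤ s trivial p.1 := by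
    haveI : IsAffine (opensCone D c i V).pt := ‹_›
    have hloc := (isAffineOpen_top (opensCone D c i V).pt).isLocalization_stalk ⟨s, trivial⟩
    letI := TopCat.Presheaf.algebra_section_stalk (opensCone D c i V).pt.presheaf
      (⟨s, trivial⟩ : (⊤ : (opensCone D c i V).pt.Opens))
    obtain ⟨⟨p, q⟩, hpq⟩ := IsLocalization.surj
      (((isAffineOpen_top (opensCone D c i V).pt).primeIdealOf ⟨s, trivial⟩).asIdeal.primeCompl)
      (S := (opensCone D c i V).pt.presheaf.stalk s) a'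
    exact ⟨(p, q.1), IsLocalization.map_units _ q, hpq⟩
  obtain ⟨l₁, t₁, ht₁⟩ := exists_appTop_π_eq_of_isAffine_of_isLimit _ _
    (isLimitOpensCone D c hc i V) num
  obtain ⟨l₂, t₂, ht₂⟩ := exists_appTop_π_eq_of_isAffine_of_isLimit _ _
    (isLimitOpensCone D c hc i V) den
  let l := IsCofiltered.min l₁ l₂
  let π' := (opensCone D c i V).π.app l
  let u₁ := ((opensDiagram D i V).map (IsCofiltered.minToLeft l₁ l₂)).appTop t₁
  let u₂ := ((opensDiagram D i V).map (IsCofiltered.minToRight l₁ l₂)).appTop t₂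
  have hu₁ : π'.appTop u₁ = num := by
    rw [← ht₁, ← (opensCone D c i V).w (IsCofiltered.minToLeft l₁ l₂), Scheme.Hom.comp_appTop]
    rfl
  have hu₂ : π'.appTop u₂ = den := by
    rw [← ht₂, ← (opensCone D c i V).w (IsCofiltered.minToRight l₁ l₂), Scheme.Hom.comp_appTop]
    rfl
  let y := π' s
  have hgerm : ∀ t, π'.stalkMap s (((opensDiagram D i V).obj l).presheaf.germ ⊤ y trivial t) =
      (opensCone D c i V).pt.presheaf.germ ⊤ s trivial (π'.appTop t) := fun t =>
    Scheme.Hom.germ_stalkMap_apply π' ⊤ s trivial t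
  have hunit : IsUnit (((opensDiagram D i V).obj l).presheaf.germ ⊤ y trivial u₂) := by
    refine isUnit_of_map_unit (π'.stalkMap s).hom _ ?_
    rw [hgerm, hu₂]
    exact hnd.1
  obtain ⟨w, hw⟩ := hunit
  let b' : ((opensDiagram D i V).obj l).presheaf.stalk y :=
    ((opensDiagram D i V).obj l).presheaf.germ ⊤ y trivial u₁ * ↑w⁻¹
  have hb' : π'.stalkMap s b' = a' := by
    refine hnd.1.mul_right_cancel ?_
    rw [hnd.2, ← hu₂, ← hgerm, ← map_mul, mul_assoc, ← hw, Units.inv_mul, mul_one, hgerm, hu₁]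
  refine ⟨l.left, l.hom, ?_⟩
  let W : (D.obj l.left).Opens := D.map l.hom ⁻¹ᵁ V
  let s₀ : (U : Scheme.{u}) := ⟨x, hxV⟩
  let p : (U : Scheme.{u}) ⟶ (W : Scheme.{u}) := π'
  have e : U.ι ≫ c.π.app l.left = p ≫ W.ι := (Scheme.Hom.resLE_comp_ι _ _).symm
  suffices h : ∀ (F : (U : Scheme.{u}) ⟶ D.obj l.left), F = p ≫ W.ι →
      ∃ b, F.stalkMap s₀ b = U.ι.stalkMap s₀ a by
    obtain ⟨b, hb⟩ := h _ e
    rw [Scheme.Hom.stalkMap_comp] at hb
    exact ⟨b, (asIso (U.ι.stalkMap s₀)).commRingCatIsoToRingEquiv.injective hb⟩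
  rintro F rfl
  obtain ⟨b, hb⟩ := (asIso (W.ι.stalkMap (p s₀))).commRingCatIsoToRingEquiv.surjective b'
  refine ⟨b, ?_⟩
  rw [Scheme.Hom.stalkMap_comp]
  show p.stalkMap s₀ (W.ι.stalkMap (p s₀) b) = _
  rw [show W.ι.stalkMap (p s₀) b = b' from hb]
  exact hb'

end Groth.Agent.LimCyc
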